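import Cfsg.Agent.H613.KKL.Defs

/-!
# S4546: dimensions of eigenspaces of an elementary abelian group of order 8 (helper406)

* `seven_le` : if all seven involutions of `D` have a `(-1)`-eigenspace of dimension `n` on `V` then `7 n ≤ 4 dim V`.
-/

set_option autoImplicit false

namespace Cfsg.Agent.H406.KKL

open Module Cfsg.Agent.H613.KKL

section Lin

variable {k V : Type*} [Field k] [AddCommGroup V] [Module k V] [FiniteDimensional k V]

/-- the eigenspace of `A` with eigenvalue `x` -/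
def eg (A : Module.End k V) (x : k) : Submodule k V where
  carrier := {v | A v = x • v}
  add_mem' := by
    intro v w hv hw
    show A (v + w) = x • (v + w)
    rw [map_add, smul_add]
    exact congrArg₂ _ hv hw
  zero_mem' := by
    show A 0 = x • 0
    rw [map_zero, smul_zero]
  smul_mem' := by
    intro c v hv
    show A (c • v) = x • c • v
    rw [map_smul, smul_comm x c]
    exact congrArg _ hv

omit [FiniteDimensional k V] in
theorem mem_eg {A : Module.End k V} {x : k} {v : V} : v ∈ eg A x ↔ A v = x • v := Iff.rfl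

omit [FiniteDimensional k V] in
theorem eg_ker (A : Module.End k V) : eg A (-1) = LinearMap.ker (A + 1) := by
  ext v
  rw [mem_eg, LinearMap.mem_ker, LinearMap.add_apply, Module.End.one_apply, neg_smul, one_smul,
    eq_neg_iff_add_eq_zero]

/-- splitting an invariant subspace -/
theorem split (h2 : (2 : k) ≠ 0) {A : Module.End k V} (hA : A * A = 1) (W : Submodule k V) (hW : ∀ w ∈ W, A w ∈ W) :
    finrank k W = finrank k ↥(W ⊓ eg A 1) + finrank k ↥(W ⊓ eg A (-1)) := by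
  have hAA : ∀ v, A (A v) = v := fun v => by
    have := congrArg (fun f : Module.End k V => f v) hA
    exact this
  have h1 : (W ⊓ eg A 1) ⊔ (W ⊓ eg A (-1)) = W := by
    apply le_antisymm (sup_le inf_le_left inf_le_left)
    intro w hw
    have e : w = (2 : k)⁻¹ • (w + A w) + (2 : k)⁻¹ • (w - A w) := by
      rw [← smul_add, add_add_sub_cancel, ← two_smul k w, smul_smul, inv_mul_cancel₀ h2, one_smul]
    rw [e]
    refine Submodule.add_mem_sup ⟨W.smul_mem _ (W.add_mem hw (hW w hw)), ?_⟩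
      ⟨W.smul_mem _ (W.sub_mem hw (hW w hw)), ?_⟩
    · show A _ = (1 : k) • _
      rw [map_smul, map_add, hAA, one_smul, add_comm]
    · show A _ = (-1 : k) • _
      rw [map_smul, map_sub, hAA, neg_smul, one_smul, ← smul_neg, neg_sub]
  have h3 : (W ⊓ eg A 1) ⊓ (W ⊓ eg A (-1)) = ⊥ := by
    rw [eq_bot_iff]
    rintro v ⟨⟨-, hv1⟩, ⟨-, hv2⟩⟩
    rw [SetLike.mem_coe, mem_eg, one_smul] at hv1
    rw [SetLike.mem_coe, mem_eg, hv1, neg_smul, one_smul] at hv2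
    have h4 : (2 : k) • v = 0 := by rw [two_smul]; exact eq_neg_iff_add_eq_zero.1 hv2
    exact (smul_eq_zero.1 h4).resolve_left h2
  have h5 := Submodule.finrank_sup_add_finrank_inf_eq (W ⊓ eg A 1) (W ⊓ eg A (-1))
  rw [h1, h3, finrank_bot, add_zero] at h5
  exact h5

/-- the joint eigenspaces -/
def eg3 (A B C : Module.End k V) (x y z : k) : Submodule k V := eg A x ⊓ eg B y ⊓ eg C z

theorem split3 (h2 : (2 : k) ≠ 0) {A B C : Module.End k V} (hA : A * A = 1) (hB : B * B = 1) (hC : C * C = 1)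
    (hAB : A * B = B * A) (hAC : A * C = C * A) (hBC : B * C = C * B) (W : Submodule k V) (hWA : ∀ w ∈ W, A w ∈ W)
    (hWB : ∀ w ∈ W, B w ∈ W) (hWC : ∀ w ∈ W, C w ∈ W) :
    finrank k W = finrank k ↥(W ⊓ eg3 A B C 1 1 1) + finrank k ↥(W ⊓ eg3 A B C 1 1 (-1)) +
      (finrank k ↥(W ⊓ eg3 A B C 1 (-1) 1) + finrank k ↥(W ⊓ eg3 A B C 1 (-1) (-1))) +
      (finrank k ↥(W ⊓ eg3 A B C (-1) 1 1) + finrank k ↥(W ⊓ eg3 A B C (-1) 1 (-1)) +
      (finrank k ↥(W ⊓ eg3 A B C (-1) (-1) 1) + finrank k ↥(W ⊓ eg3 A B C (-1) (-1) (-1)))) := by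
  have inv : ∀ {P Q : Module.End k V}, P * Q = Q * P → ∀ (x : k), ∀ v ∈ eg P x, Q v ∈ eg P x := by
    intro P Q h x v hv
    rw [mem_eg] at hv ⊢
    have h1 : P (Q v) = Q (P v) := congrArg (fun f : Module.End k V => f v) h
    rw [h1, hv, map_smul]
  have key : ∀ x y : k, finrank k ↥(W ⊓ eg A x ⊓ eg B y) =
      finrank k ↥(W ⊓ eg3 A B C x y 1) + finrank k ↥(W ⊓ eg3 A B C x y (-1)) := by
    intro x y
    have h1 : ∀ z : k, W ⊓ eg3 A B C x y z = W ⊓ eg A x ⊓ eg B y ⊓ eg C z := fun z => by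
      unfold eg3
      rw [inf_assoc (W ⊓ eg A x), inf_assoc W, inf_assoc (eg A x)]
    rw [h1, h1]
    exact split h2 hC (W ⊓ eg A x ⊓ eg B y) fun w hw => ⟨⟨hWC w hw.1.1, inv hAC x w hw.1.2⟩, inv hBC y w hw.2⟩
  have key2 : ∀ x : k, finrank k ↥(W ⊓ eg A x) = finrank k ↥(W ⊓ eg A x ⊓ eg B 1) +
      finrank k ↥(W ⊓ eg A x ⊓ eg B (-1)) := fun x =>
    split h2 hB (W ⊓ eg A x) fun w hw => ⟨hWB w hw.1, inv hAB x w hw.2⟩
  rw [split h2 hA W hWA, key2, key2, key, key, key, key]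

end Lin

/-- three generators -/
theorem gens {G : Type*} [Group G] {D : Subgroup G} (h8 : E8 D) : ∃ a ∈ D, ∃ b ∈ D, ∃ c ∈ D, a ≠ 1 ∧ b ≠ 1 ∧
    a * b ≠ 1 ∧ c ≠ 1 ∧ a * c ≠ 1 ∧ b * c ≠ 1 ∧ a * b * c ≠ 1 := by
  classical
  have hfin : Finite D := Nat.finite_of_card_ne_zero (by rw [h8.card]; norm_num)
  have hfs : (D : Set G).Finite := Set.toFinite _
  have hcard : hfs.toFinset.card = 8 := by
    rw [← h8.card, ← Set.ncard_eq_toFinset_card (D : Set G) hfs]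
    rfl
  have pick : ∀ S : Finset G, S.card < 8 → ∃ x ∈ D, x ∉ S := by
    intro S hS
    obtain ⟨x, hx, hxS⟩ := Finset.exists_mem_notMem_of_card_lt_card (hS.trans_eq hcard.symm)
    exact ⟨x, (Set.Finite.mem_toFinset hfs).1 hx, hxS⟩
  obtain ⟨a, ha, ha'⟩ := pick {1} (by simp)
  obtain ⟨b, hb, hb'⟩ := pick {1, a} ((Finset.card_le_two).trans_lt (by norm_num))
  obtain ⟨c, hc, hc'⟩ := pick {1, a, b, a * b} ((Finset.card_le_four).trans_lt (by norm_num))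
  simp only [Finset.mem_insert, Finset.mem_singleton, not_or] at ha' hb' hc'
  have inv : ∀ x ∈ D, x⁻¹ = x := fun x hx => inv_eq_of_mul_eq_one_left (h8.inv x hx)
  refine ⟨a, ha, b, hb, c, hc, ha', hb'.1, fun h => hb'.2 ?_, hc'.1, fun h => hc'.2.1 ?_, fun h => hc'.2.2.1 ?_,
    fun h => hc'.2.2.2 ?_⟩
  · rw [← inv a ha]; exact eq_inv_of_mul_eq_one_right h
  · rw [← inv a ha]; exact eq_inv_of_mul_eq_one_right h
  · rw [← inv b hb]; exact eq_inv_of_mul_eq_one_right h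
  · rw [← inv _ (mul_mem ha hb)]; exact eq_inv_of_mul_eq_one_right h

/-- **The dimension argument.** -/
theorem seven_le {k V : Type*} [Field k] [AddCommGroup V] [Module k V] [FiniteDimensional k V] (h2 : (2 : k) ≠ 0)
    {K : Type*} [Group K] (ρ : K →* Module.End k V) {D : Subgroup K} (h8 : E8 D) {n : ℕ}
    (hn : ∀ t ∈ D, t ≠ 1 → n ≤ finrank k ↥(LinearMap.ker (ρ t + 1))) : 7 * n ≤ 4 * finrank k V := by
  obtain ⟨a, ha, b, hb, c, hc, a1, b1, ab1, c1, ac1, bc1, abc1⟩ := gens h8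
  have hcom : ∀ x ∈ D, ∀ y ∈ D, x * y = y * x := by
    intro x hx y hy
    have h1 := h8.inv _ (mul_mem hx hy)
    have hx' : x⁻¹ = x := inv_eq_of_mul_eq_one_left (h8.inv x hx)
    have hy' : y⁻¹ = y := inv_eq_of_mul_eq_one_left (h8.inv y hy)
    have h2 : x * y = (x * y)⁻¹ := (inv_eq_of_mul_eq_one_left h1).symm
    rw [h2, mul_inv_rev, hx', hy']
  have rsq : ∀ x ∈ D, ρ x * ρ x = 1 := fun x hx => by rw [← map_mul, h8.inv x hx, map_one]
  have rcm : ∀ x ∈ D, ∀ y ∈ D, ρ x * ρ y = ρ y * ρ x := fun x hx y hy => by rw [← map_mul, hcom x hx y hy, map_mul]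
  have hsp := fun (W : Submodule k V) (hW : ∀ x ∈ D, ∀ w ∈ W, ρ x w ∈ W) =>
    split3 h2 (rsq a ha) (rsq b hb) (rsq c hc) (rcm a ha b hb) (rcm a ha c hc) (rcm b hb c hc) W (hW a ha) (hW b hb)
      (hW c hc)
  -- the whole space
  have htot := hsp ⊤ fun _ _ _ _ => Submodule.mem_top
  rw [finrank_top] at htot
  rw [top_inf_eq, top_inf_eq, top_inf_eq, top_inf_eq, top_inf_eq, top_inf_eq, top_inf_eq, top_inf_eq] at htot
  -- the eigenspaces of `t`
  have hev : ∀ t ∈ D, finrank k ↥(LinearMap.ker (ρ t + 1)) = _ := fun t ht =>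
    hsp (LinearMap.ker (ρ t + 1)) fun x hx w hw => by
      rw [← eg_ker, mem_eg] at hw ⊢
      have h3 : ρ t (ρ x w) = ρ x (ρ t w) := congrArg (fun f : Module.End k V => f w) (rcm t ht x hx)
      rw [h3, hw, map_smul]
  have hin : ∀ (t : K) (x y z : k), (∀ v ∈ eg3 (ρ a) (ρ b) (ρ c) x y z, ρ t v = (-1 : k) • v) →
      LinearMap.ker (ρ t + 1) ⊓ eg3 (ρ a) (ρ b) (ρ c) x y z = eg3 (ρ a) (ρ b) (ρ c) x y z := by
    intro t x y z h
    refine inf_eq_right.2 fun v hv => ?_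
    rw [← eg_ker]
    exact h v hv
  have hout : ∀ (t : K) (x y z : k), (∀ v ∈ eg3 (ρ a) (ρ b) (ρ c) x y z, ρ t v = (1 : k) • v) →
      finrank k ↥(LinearMap.ker (ρ t + 1) ⊓ eg3 (ρ a) (ρ b) (ρ c) x y z) = 0 := by
    intro t x y z h
    have h3 : LinearMap.ker (ρ t + 1) ⊓ eg3 (ρ a) (ρ b) (ρ c) x y z = ⊥ := by
      rw [eq_bot_iff]
      rintro v ⟨hv1, hv2⟩
      rw [← eg_ker] at hv1
      have h4 := h v hv2
      rw [SetLike.mem_coe, mem_eg, h4, one_smul, neg_smul, one_smul] at hv1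
      have h5 : (2 : k) • v = 0 := by rw [two_smul]; exact eq_neg_iff_add_eq_zero.1 hv1
      exact (smul_eq_zero.1 h5).resolve_left h2
    rw [h3, finrank_bot]
  have ea : ∀ (x y z : k), ∀ v ∈ eg3 (ρ a) (ρ b) (ρ c) x y z, ρ a v = x • v := fun x y z v hv => hv.1.1
  have eb : ∀ (x y z : k), ∀ v ∈ eg3 (ρ a) (ρ b) (ρ c) x y z, ρ b v = y • v := fun x y z v hv => hv.1.2
  have ec : ∀ (x y z : k), ∀ v ∈ eg3 (ρ a) (ρ b) (ρ c) x y z, ρ c v = z • v := fun x y z v hv => hv.2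
  have emul : ∀ {s t : K} {x y : k} {U : Submodule k V}, (∀ v ∈ U, ρ s v = x • v) → (∀ v ∈ U, ρ t v = y • v) →
      ∀ v ∈ U, ρ (s * t) v = (x * y) • v := by
    intro s t x y U h h' v hv
    have h3 : ρ (s * t) v = ρ s (ρ t v) := by rw [map_mul]; rfl
    rw [h3, h' v hv, map_smul, h v hv, smul_smul, mul_comm]
  have eab : ∀ (x y z : k), ∀ v ∈ eg3 (ρ a) (ρ b) (ρ c) x y z, ρ (a * b) v = (x * y) • v := fun x y z =>
    emul (ea x y z) (eb x y z)
  have eac : ∀ (x y z : k), ∀ v ∈ eg3 (ρ a) (ρ b) (ρ c) x y z, ρ (a * c) v = (x * z) • v := fun x y z =>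
    emul (ea x y z) (ec x y z)
  have ebc : ∀ (x y z : k), ∀ v ∈ eg3 (ρ a) (ρ b) (ρ c) x y z, ρ (b * c) v = (y * z) • v := fun x y z =>
    emul (eb x y z) (ec x y z)
  have eabc : ∀ (x y z : k), ∀ v ∈ eg3 (ρ a) (ρ b) (ρ c) x y z, ρ (a * b * c) v = (x * y * z) • v := fun x y z =>
    emul (eab x y z) (ec x y z)
  have Hin : ∀ (t : K) (x y z s : k), (∀ v ∈ eg3 (ρ a) (ρ b) (ρ c) x y z, ρ t v = s • v) → s = -1 →
      finrank k ↥(LinearMap.ker (ρ t + 1) ⊓ eg3 (ρ a) (ρ b) (ρ c) x y z) =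
        finrank k ↥(eg3 (ρ a) (ρ b) (ρ c) x y z) := by
    rintro t x y z s h rfl
    rw [hin t x y z h]
  have Hout : ∀ (t : K) (x y z s : k), (∀ v ∈ eg3 (ρ a) (ρ b) (ρ c) x y z, ρ t v = s • v) → s = 1 →
      finrank k ↥(LinearMap.ker (ρ t + 1) ⊓ eg3 (ρ a) (ρ b) (ρ c) x y z) = 0 := by
    rintro t x y z s h rfl
    exact hout t x y z h
  have fa := hev a ha
  rw [Hout a 1 1 1 _ (ea 1 1 1) (by norm_num),
    Hout a 1 1 (-1) _ (ea 1 1 (-1)) (by norm_num),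
    Hout a 1 (-1) 1 _ (ea 1 (-1) 1) (by norm_num),
    Hout a 1 (-1) (-1) _ (ea 1 (-1) (-1)) (by norm_num),
    Hin a (-1) 1 1 _ (ea (-1) 1 1) (by norm_num),
    Hin a (-1) 1 (-1) _ (ea (-1) 1 (-1)) (by norm_num),
    Hin a (-1) (-1) 1 _ (ea (-1) (-1) 1) (by norm_num),
    Hin a (-1) (-1) (-1) _ (ea (-1) (-1) (-1)) (by norm_num)] at fa
  have fb := hev b hb
  rw [Hout b 1 1 1 _ (eb 1 1 1) (by norm_num),
    Hout b 1 1 (-1) _ (eb 1 1 (-1)) (by norm_num),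
    Hin b 1 (-1) 1 _ (eb 1 (-1) 1) (by norm_num),
    Hin b 1 (-1) (-1) _ (eb 1 (-1) (-1)) (by norm_num),
    Hout b (-1) 1 1 _ (eb (-1) 1 1) (by norm_num),
    Hout b (-1) 1 (-1) _ (eb (-1) 1 (-1)) (by norm_num),
    Hin b (-1) (-1) 1 _ (eb (-1) (-1) 1) (by norm_num),
    Hin b (-1) (-1) (-1) _ (eb (-1) (-1) (-1)) (by norm_num)] at fb
  have fc := hev c hc
  rw [Hout c 1 1 1 _ (ec 1 1 1) (by norm_num),
    Hin c 1 1 (-1) _ (ec 1 1 (-1)) (by norm_num),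
    Hout c 1 (-1) 1 _ (ec 1 (-1) 1) (by norm_num),
    Hin c 1 (-1) (-1) _ (ec 1 (-1) (-1)) (by norm_num),
    Hout c (-1) 1 1 _ (ec (-1) 1 1) (by norm_num),
    Hin c (-1) 1 (-1) _ (ec (-1) 1 (-1)) (by norm_num),
    Hout c (-1) (-1) 1 _ (ec (-1) (-1) 1) (by norm_num),
    Hin c (-1) (-1) (-1) _ (ec (-1) (-1) (-1)) (by norm_num)] at fc
  have fab := hev (a * b) (mul_mem ha hb)
  rw [Hout (a * b) 1 1 1 _ (eab 1 1 1) (by norm_num),
    Hout (a * b) 1 1 (-1) _ (eab 1 1 (-1)) (by norm_num),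
    Hin (a * b) 1 (-1) 1 _ (eab 1 (-1) 1) (by norm_num),
    Hin (a * b) 1 (-1) (-1) _ (eab 1 (-1) (-1)) (by norm_num),
    Hin (a * b) (-1) 1 1 _ (eab (-1) 1 1) (by norm_num),
    Hin (a * b) (-1) 1 (-1) _ (eab (-1) 1 (-1)) (by norm_num),
    Hout (a * b) (-1) (-1) 1 _ (eab (-1) (-1) 1) (by norm_num),
    Hout (a * b) (-1) (-1) (-1) _ (eab (-1) (-1) (-1)) (by norm_num)] at fab
  have fac := hev (a * c) (mul_mem ha hc)
  rw [Hout (a * c) 1 1 1 _ (eac 1 1 1) (by norm_num),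
    Hin (a * c) 1 1 (-1) _ (eac 1 1 (-1)) (by norm_num),
    Hout (a * c) 1 (-1) 1 _ (eac 1 (-1) 1) (by norm_num),
    Hin (a * c) 1 (-1) (-1) _ (eac 1 (-1) (-1)) (by norm_num),
    Hin (a * c) (-1) 1 1 _ (eac (-1) 1 1) (by norm_num),
    Hout (a * c) (-1) 1 (-1) _ (eac (-1) 1 (-1)) (by norm_num),
    Hin (a * c) (-1) (-1) 1 _ (eac (-1) (-1) 1) (by norm_num),
    Hout (a * c) (-1) (-1) (-1) _ (eac (-1) (-1) (-1)) (by norm_num)] at fac
  have fbc := hev (b * c) (mul_mem hb hc)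
  rw [Hout (b * c) 1 1 1 _ (ebc 1 1 1) (by norm_num),
    Hin (b * c) 1 1 (-1) _ (ebc 1 1 (-1)) (by norm_num),
    Hin (b * c) 1 (-1) 1 _ (ebc 1 (-1) 1) (by norm_num),
    Hout (b * c) 1 (-1) (-1) _ (ebc 1 (-1) (-1)) (by norm_num),
    Hout (b * c) (-1) 1 1 _ (ebc (-1) 1 1) (by norm_num),
    Hin (b * c) (-1) 1 (-1) _ (ebc (-1) 1 (-1)) (by norm_num),
    Hin (b * c) (-1) (-1) 1 _ (ebc (-1) (-1) 1) (by norm_num),
    Hout (b * c) (-1) (-1) (-1) _ (ebc (-1) (-1) (-1)) (by norm_num)] at fbc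
  have fabc := hev (a * b * c) (mul_mem (mul_mem ha hb) hc)
  rw [Hout (a * b * c) 1 1 1 _ (eabc 1 1 1) (by norm_num),
    Hin (a * b * c) 1 1 (-1) _ (eabc 1 1 (-1)) (by norm_num),
    Hin (a * b * c) 1 (-1) 1 _ (eabc 1 (-1) 1) (by norm_num),
    Hout (a * b * c) 1 (-1) (-1) _ (eabc 1 (-1) (-1)) (by norm_num),
    Hin (a * b * c) (-1) 1 1 _ (eabc (-1) 1 1) (by norm_num),
    Hout (a * b * c) (-1) 1 (-1) _ (eabc (-1) 1 (-1)) (by norm_num),
    Hout (a * b * c) (-1) (-1) 1 _ (eabc (-1) (-1) 1) (by norm_num),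
    Hin (a * b * c) (-1) (-1) (-1) _ (eabc (-1) (-1) (-1)) (by norm_num)] at fabc
  have na := hn a ha a1
  have nb := hn b hb b1
  have nc := hn c hc c1
  have nab := hn (a * b) (mul_mem ha hb) ab1
  have nac := hn (a * c) (mul_mem ha hc) ac1
  have nbc := hn (b * c) (mul_mem hb hc) bc1
  have nabc := hn (a * b * c) (mul_mem (mul_mem ha hb) hc) abc1
  omega

end Cfsg.Agent.H406.KKL
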