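import Cfsg.Agent.H557.InvF4
import Cfsg.Agent.H952.F4.JMod
import Cfsg.Agent.H952.F4.TorDiag
import Cfsg.Agent.H613.KKL.CI
import Cfsg.Agent.H406.KKL.Dim

/-!
# S4546, row `F₄(q)`, `q` odd: no configuration (helper406)

Every involution of `D` is a torus element up to conjugation, of one of two classes.  On the 27-dimensional module
the `(-1)`-eigenspaces have dimension 16 or 12.  All involutions of `D` are conjugate: 16 contradicts
`7 * 16 ≤ 4 * 27`, 12 contradicts the argument of the classical involutions (`64 ∣ 12`).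
-/

set_option autoImplicit false

namespace Cfsg.Agent.H406.KKL

open Module Cfsg.Lie Cfsg.Agent.H613.KKL Cfsg.Agent.H952.F4 Cfsg.Agent.H815.F4Tor
open Cfsg.Agent.ChevalleyStructure Cfsg.Agent.ChevalleyStructure.E6Min.Tables
  Cfsg.Agent.ChevalleyStructure.E6Min.Basic
open Cfsg.Agent.OddHalf.NI.ModelChev Cfsg.Agent.H557.SignTorus Cfsg.Agent.H557.InvClass
  Cfsg.Agent.H557.ToralTypes Cfsg.Agent.H557.OrbF4 Cfsg.Agent.H557.InvF4
open Cfsg.Agent.Nodes.RGDChev Cfsg.Agent.KFacts.RgdChevCoord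

/-- the dimension of the `(-1)`-eigenspace of a diagonal matrix -/
theorem finrank_ker_diag {ι k : Type*} [Fintype ι] [DecidableEq ι] [Field k] (w : ι → k) :
    finrank k ↥(LinearMap.ker (Matrix.toLin' (Matrix.diagonal w) + 1)) = Nat.card {i // w i = -1} := by
  classical
  have h1 : Matrix.toLin' (Matrix.diagonal w) + 1 = Matrix.toLin' (Matrix.diagonal (w + 1)) := by
    rw [show (w + 1 : ι → k) = fun i => w i + 1 from rfl, ← Matrix.diagonal_add, map_add]
    congr 1
    exact (Matrix.toLin'_one).symm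
  have h2 := LinearMap.finrank_range_add_finrank_ker (Matrix.toLin' (Matrix.diagonal (w + 1)))
  have h3 : finrank k ↥(LinearMap.range (Matrix.toLin' (Matrix.diagonal (w + 1)))) =
      Fintype.card {i // (w + 1) i ≠ 0} := by
    rw [← Matrix.rank_diagonal]
    rfl
  have h4 : Fintype.card {i // (w + 1) i ≠ 0} + Nat.card {i // w i = -1} = Fintype.card ι := by
    have e1 : Nat.card {i // w i = -1} = Fintype.card {i // ¬ (w + 1) i ≠ 0} := by
      rw [Nat.card_eq_fintype_card]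
      refine Fintype.card_congr (Equiv.subtypeEquivRight fun i => ?_)
      rw [Pi.add_apply, Pi.one_apply, not_not, eq_neg_iff_add_eq_zero]
    rw [e1]
    have := Fintype.card_subtype_compl (fun i => (w + 1) i ≠ 0)
    have h5 := Fintype.card_subtype_le (fun i => (w + 1) i ≠ 0)
    omega
  rw [h3, Module.finrank_fintype_fun_eq_card] at h2
  rw [h1]
  omega

/-- the dimension of the `(-1)`-eigenspace is invariant under conjugation -/
theorem finrank_conj {k V G : Type*} [Field k] [AddCommGroup V] [Module k V] [Group G]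
    (ρ : G →* Module.End k V) (g t : G) :
    finrank k ↥(LinearMap.ker (ρ (g * t * g⁻¹) + 1)) = finrank k ↥(LinearMap.ker (ρ t + 1)) := by
  have c1 : ∀ v, ρ g (ρ g⁻¹ v) = v := fun v => by
    rw [← Module.End.mul_apply, ← map_mul, mul_inv_cancel, map_one]; rfl
  have c2 : ∀ v, ρ g⁻¹ (ρ g v) = v := fun v => by
    rw [← Module.End.mul_apply, ← map_mul, inv_mul_cancel, map_one]; rfl
  let e : V ≃ₗ[k] V := LinearEquiv.ofLinearMap (ρ g) (ρ g⁻¹) (LinearMap.ext c1) (LinearMap.ext c2)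
  have h1 : LinearMap.ker (ρ (g * t * g⁻¹) + 1) = (LinearMap.ker (ρ t + 1)).map (e : V →ₗ[k] V) := by
    ext v
    have h2 : v ∈ (LinearMap.ker (ρ t + 1)).map (e : V →ₗ[k] V) ↔ ρ g⁻¹ v ∈ LinearMap.ker (ρ t + 1) :=
      Submodule.mem_map_equiv _
    rw [h2, LinearMap.mem_ker, LinearMap.mem_ker, LinearMap.add_apply, LinearMap.add_apply, Module.End.one_apply,
      Module.End.one_apply, map_mul, map_mul, Module.End.mul_apply, Module.End.mul_apply]
    constructor
    · intro h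
      have h3 := congrArg (ρ g⁻¹) h
      rwa [map_add, c2, map_zero] at h3
    · intro h
      have h3 := congrArg (ρ g) h
      rwa [map_add, c1, map_zero] at h3
  rw [h1, LinearEquiv.finrank_map_eq]

variable {K : Type*} [Field K]

/-- the weight of `th b` -/
theorem rho_th {ρ : ↥(chevF4.group K) →* GL I27 K} (hρ : IsJ ρ) (b : Fin 4 → Kˣ) :
    ((ρ (th typeF4 b) : GL I27 K) : Matrix I27 I27 K) = Matrix.diagonal fun x => ((∏ j, b j ^ wx j x : Kˣ) : K) := by
  let f1 : (Fin 4 → Kˣ) →* Matrix I27 I27 K := (Units.coeHom _).comp (ρ.comp (th typeF4))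
  let f2 : (Fin 4 → Kˣ) →* Matrix I27 I27 K :=
    { toFun := fun b => Matrix.diagonal fun x => ((∏ j, b j ^ wx j x : Kˣ) : K)
      map_one' := by
        rw [← Matrix.diagonal_one]
        congr 1
        funext x
        rw [Finset.prod_eq_one fun i _ => by rw [Pi.one_apply, one_zpow], Units.val_one]
      map_mul' := fun s t => by
        rw [Matrix.diagonal_mul_diagonal]
        congr 1
        funext x
        rw [← Units.val_mul, ← Finset.prod_mul_distrib]
        congr 1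
        exact Finset.prod_congr rfl fun i _ => by rw [Pi.mul_apply, mul_zpow] }
  have h1 : f1 = f2 := by
    refine MonoidHom.pi_ext fun i u => ?_
    have e1 : th typeF4 (Pi.mulSingle i u) = hc typeF4 i (u : K) := by
      show ((thT typeF4 (Pi.mulSingle i u) : ↥(TT chevF4 K)) : ↥(chevF4.group K)) = _
      rw [thT_mulSingle, coe_hcH]
    show ((ρ (th typeF4 (Pi.mulSingle i u)) : GL I27 K) : Matrix I27 I27 K) = Matrix.diagonal fun x =>
      ((∏ j, (Pi.mulSingle i u : Fin 4 → Kˣ) j ^ wx j x : Kˣ) : K)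
    rw [e1, rho_hc hρ, hY_eq i u.ne_zero]
    congr 1
    funext x
    rw [Finset.prod_eq_single i (fun k _ hk => by rw [Pi.mulSingle_eq_of_ne hk, one_zpow])
      (fun hi => absurd (Finset.mem_univ i) hi), Pi.mulSingle_eq_same, Units.val_zpow_eq_zpow_val]
  exact DFunLike.congr_fun h1 b

/-- exponents of a mask -/
def ew (m : ℕ) (x : I27) : ℤ := ∑ j : Fin 4, if m.testBit j then wx j x else 0

theorem prod_sg (m : ℕ) (x : I27) : ∏ j : Fin 4, (sg K 4 m j) ^ wx j x = (-1 : Kˣ) ^ ew m x := by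
  unfold ew Cfsg.Agent.H557.SignTorus.sg
  rw [Fin.prod_univ_four, Fin.sum_univ_four, zpow_add, zpow_add, zpow_add]
  congr 1
  · congr 1
    · congr 1 <;> split_ifs <;> simp
    · split_ifs <;> simp
  · split_ifs <;> simp

/-- the dimension of the `(-1)`-eigenspace for a mask -/
def cnt (m : ℕ) : ℕ := (Finset.univ.filter fun x : I27 => ew m x % 2 ≠ 0).card

theorem card_ew (h2 : (2 : K) ≠ 0) (m : ℕ) :
    Nat.card {x : I27 // ((∏ j : Fin 4, (sg K 4 m j) ^ wx j x : Kˣ) : K) = -1} = cnt m := by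
  classical
  unfold cnt
  rw [← Fintype.card_subtype, Nat.card_eq_fintype_card]
  refine Fintype.card_congr (Equiv.subtypeEquivRight fun x => ?_)
  rw [prod_sg]
  have h3 : (1 : K) ≠ -1 := by
    intro h
    apply h2
    rw [← one_add_one_eq_two]
    exact eq_neg_iff_add_eq_zero.1 h
  rcases Int.even_or_odd (ew m x) with h | h
  · rw [h.neg_one_zpow, Units.val_one]
    exact ⟨fun h4 => absurd h4 h3, fun h4 => absurd (Int.even_iff.1 h) h4⟩
  · rw [h.neg_one_zpow, Units.val_neg, Units.val_one]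
    exact ⟨fun _ => by rw [Int.odd_iff.1 h]; norm_num, fun _ => rfl⟩

theorem cnt_B4 : ∀ m < 16, O_TabB4.testBit m = true → cnt m = 16 := by decide +kernel

theorem cnt_C3A1 : ∀ m < 16, O_TabC3A1.testBit m = true → cnt m = 12 := by decide +kernel

/-- the 27-dimensional representation -/
noncomputable def R (ρ : ↥(chevF4.group K) →* GL I27 K) : ↥(chevF4.group K) →* Module.End K (I27 → K) :=
  ((Matrix.toLinAlgEquiv' : Matrix I27 I27 K ≃ₐ[K] _) : Matrix I27 I27 K →* Module.End K (I27 → K)).comp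
    ((Units.coeHom _).comp ρ)

theorem dim_th (h2 : (2 : K) ≠ 0) {ρ : ↥(chevF4.group K) →* GL I27 K} (hρ : IsJ ρ) (m : ℕ) :
    finrank K ↥(LinearMap.ker (R ρ (th typeF4 (sg K 4 m)) + 1)) = cnt m := by
  have h3 : R ρ (th typeF4 (sg K 4 m)) = Matrix.toLin' (Matrix.diagonal fun x =>
      ((∏ j, (sg K 4 m) j ^ wx j x : Kˣ) : K)) := by
    rw [← rho_th hρ]
    rfl
  rw [h3, finrank_ker_diag, card_ew h2]

/-- the core of the row -/
theorem core {K : Type} [Field K] [Fintype K] (ho : Odd (Fintype.card K)) {D : Subgroup ↥(chevF4.group K)}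
    {x : ↥(chevF4.group K)} (hc : Cfg0 D x)
    (hX2 : ∃ J : ↥(chevF4.group K) → Subgroup ↥(chevF4.group K),
      (∀ t, IsConj (Cfsg.Agent.KFacts.RgdChevCoord.hc typeF4 3 (-1 : K)) t → CI t (J t)) ∧
      ∀ y t g, y * g * y⁻¹ ∈ J (y * t * y⁻¹) ↔ g ∈ J t)
    (hX1 : ∀ J : ↥(chevF4.group K) → Subgroup ↥(chevF4.group K), (∀ t ∈ D, t ≠ 1 → CI t (J t)) →
      (∀ y : ↥(chevF4.group K), ∀ t ∈ D, t ≠ 1 → ∀ g, y * g * y⁻¹ ∈ J (y * t * y⁻¹) ↔ g ∈ J t) →
      ∀ (ρ : ↥(chevF4.group K) →* Module.End K (I27 → K)), ∀ t ∈ D, t ≠ 1 →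
        64 ∣ finrank K ↥(LinearMap.ker (ρ t + 1))) : False := by
  obtain ⟨p, hpp, hpc, hp2⟩ := exists_char K ho
  have : Fact p.Prime := ⟨hpp⟩
  have h2 : (2 : K) ≠ 0 := by
    intro h
    have h3 : p ∣ 2 := (CharP.cast_eq_zero_iff K p 2).1 (by exact_mod_cast h)
    have h4 := (Nat.prime_dvd_prime_iff_eq hpp Nat.prime_two).1 h3
    rw [h4] at hp2
    exact absurd hp2 (by decide)
  obtain ⟨ρ, hρ⟩ := JMod.exists_isJ K
  obtain ⟨a, ha, -, -, -, -, a1, -⟩ := gens hc.e8
  obtain ⟨y, hy⟩ := hc.seven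
  -- `a` is a torus element
  have haa := hc.e8.inv a ha
  obtain ⟨g, hg⟩ := toral_F4 ho haa
  obtain ⟨b, hb⟩ := surj_F4 hg
  have hb2 : b * b = 1 := by
    apply inj_F4
    rw [map_mul, hb]
    have : g * a * g⁻¹ * (g * a * g⁻¹) = g * (a * a) * g⁻¹ := by group
    rw [this, haa, mul_one, mul_inv_cancel]
  obtain ⟨m, hm, rfl⟩ := exists_sg hb2
  have hdim : ∀ t ∈ D, t ≠ 1 → finrank K ↥(LinearMap.ker (R ρ t + 1)) = cnt m := by
    intro t ht ht1
    obtain ⟨k, hk⟩ := hy.trans a ha a1 t ht ht1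
    rw [← hk, finrank_conj, ← dim_th h2 hρ m, ← finrank_conj _ g a]
    exact congrArg (fun z => finrank K ↥(LinearMap.ker (R ρ z + 1))) hb.symm
  rcases cover m hm with h | h | h
  · subst h
    rw [sg_zero, map_one] at hb
    apply a1
    have h3 : a = g⁻¹ * (g * a * g⁻¹) * g := by group
    rw [h3, ← hb, mul_one, inv_mul_cancel]
  · have h3 := seven_le h2 (R ρ) hc.e8 (n := 16) fun t ht ht1 => by
      rw [hdim t ht ht1, cnt_B4 m hm h]
    rw [Module.finrank_fintype_fun_eq_card] at h3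
    have h4 : Fintype.card I27 = 27 := rfl
    omega
  · obtain ⟨J, hJ1, hJ2⟩ := hX2
    have hconj : ∀ t ∈ D, t ≠ 1 → IsConj (Cfsg.Agent.KFacts.RgdChevCoord.hc typeF4 3 (-1 : K)) t := by
      intro t ht ht1
      have e1 : th typeF4 (sg K 4 8) = Cfsg.Agent.KFacts.RgdChevCoord.hc typeF4 3 (-1 : K) := by
        have h5 : sg K 4 8 = Pi.mulSingle 3 (-1 : Kˣ) := by
          funext i
          fin_cases i <;> simp [Cfsg.Agent.H557.SignTorus.sg, Nat.testBit]
        rw [h5]
        show ((thT typeF4 (Pi.mulSingle 3 (-1 : Kˣ)) : ↥(TT chevF4 K)) : ↥(chevF4.group K)) = _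
        rw [thT_mulSingle, coe_hcH]
        simp
      have c1 := D_TabC3A1.conj hcm (K := K) p (m := 8) (by decide)
      have c2 := D_TabC3A1.conj hcm (K := K) p h
      rw [← e1]
      refine c1.trans (c2.symm.trans ?_)
      obtain ⟨k, hk⟩ := hy.trans a ha a1 t ht ht1
      have c3 : IsConj a t := isConj_iff.2 ⟨_, hk⟩
      have c4 : IsConj a (th typeF4 (sg K 4 m)) := isConj_iff.2 ⟨g, hb.symm⟩
      exact c4.symm.trans c3
    have h3 := hX1 J (fun t ht ht1 => hJ1 t (hconj t ht ht1)) (fun y t _ _ g => hJ2 y t g) (R ρ) a ha a1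
    rw [hdim a ha a1, cnt_C3A1 m hm h] at h3
    omega

end Cfsg.Agent.H406.KKL
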