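import Cfsg.Agent.H392.KKL.X2a
import Cfsg.Agent.H40.KKL.XOne
import Cfsg.Agent.H406.KKL.RowF4

/-!
# S4546, row `F₄(q)`, `q` odd (helper406)

`E_F4` : `F₄(q)`, `q` odd, is not the group `D` of a configuration.
-/

set_option autoImplicit false

namespace Cfsg.Agent.H406.KKL

open Cfsg.Lie Cfsg.Agent.H613.KKL Cfsg.Agent.H815.F4Tor Cfsg.Agent.GenExc Cfsg.Agent.GenExc.Chev
  Cfsg.Agent.OddHalf.LongSL.Chev

theorem nocfg_of {K : Type} [Field K] [Fintype K] (ho : Odd (Fintype.card K)) (h2 : (2 : K) ≠ 0)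
    (hX2 : ∃ J : ↥(chevF4.group K) → Subgroup ↥(chevF4.group K),
      (∀ t, IsConj (Cfsg.Agent.KFacts.RgdChevCoord.hc typeF4 3 (-1 : K)) t → CI t (J t)) ∧
      ∀ y t g, y * g * y⁻¹ ∈ J (y * t * y⁻¹) ↔ g ∈ J t) : NoCfg ↥(chevF4.group K) := by
  intro D x hc
  refine core ho hc hX2 fun J hJ hy ρ t ht ht1 => ?_
  have : Finite ↥(chevF4.group K) := Finite.of_injective _ Subtype.val_injective
  exact (Cfsg.Agent.H40.KKL.X1 hc J hJ hy h2 ρ).2.2 t ht ht1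

/-- **the row `F₄(q)`, `q` odd** -/
theorem E_F4 {F : Type} [Field F] [Fintype F] {p : ℕ} [Fact p.Prime] [CharP F p] (hp : p ≠ 2) :
    NoCfg ↥(Lie.chevF4.group F) := by
  have h2 : (2 : F) ≠ 0 := by
    intro h
    have h1 : ((2 : ℕ) : F) = 0 := by exact_mod_cast h
    have h3 := (CharP.cast_eq_zero_iff F p 2).1 h1
    exact hp ((Nat.prime_dvd_prime_iff_eq Fact.out Nat.prime_two).1 h3)
  have ho : Odd (Fintype.card F) := by
    obtain ⟨n, hpp, hn⟩ := FiniteField.card F p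
    rw [hn]
    exact (hpp.odd_of_ne_two hp).pow
  have e : zS isType_F4 F [3] = Cfsg.Agent.KFacts.RgdChevCoord.hc typeF4 3 (-1 : F) := by
    rw [zS_cons, zS_nil, mul_one]
    exact Subtype.ext (phi_neg_one isType_F4 F 3)
  obtain ⟨J, -, hJ, hJy⟩ := Cfsg.Agent.H392.KKL.x2a_F4 (F := F) h2
  rw [e] at hJ
  exact nocfg_of ho h2 ⟨J, hJ, hJy⟩

end Cfsg.Agent.H406.KKL
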